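import Cfsg.Agent.CoThreeStd.DC2.Eng
import Cfsg.Agent.CoThreeStd.BoundS.Data
import Cfsg.Agent.CoThreeStd.BoundS.Data1
import Cfsg.Agent.CoThreeStd.BoundS.Data2
import Cfsg.Agent.CoThreeStd.BoundS.Data3
import Cfsg.Agent.CoThreeStd.BoundS.Data4
import Cfsg.Agent.CoThreeStd.BoundS.Data5
import Cfsg.Agent.CoThreeStd.BoundS.Data6
import Cfsg.Agent.CoThreeStd.BoundS.Data7
import Cfsg.Agent.CoThreeStd.BoundS.Data8
import Cfsg.Agent.CoThreeStd.BoundS.Data9
import Cfsg.Agent.CoThreeStd.BoundS.Data10
import Cfsg.Agent.CoThreeStd.BoundS.Data11
import Cfsg.Agent.CoThreeStd.BoundS.Data12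

/-! The static tables of the double coset enumeration over `(M₁₂:2) × 2` (generated). -/

set_option autoImplicit false
set_option maxRecDepth 100000

namespace Cfsg.Agent.CoThreeStd.BoundS.Data

open Cfsg.Agent.CoThreeStd.DC2.Eng

/-- the rows -/
def rows : BT :=
 .node (.node (.node (.node (.node (.node (.node (.leaf 0 0)
        (.leaf row_64 796))
       (.node (.leaf row_32 794)
        (.leaf 0 0)))
      (.node (.node (.leaf row_16 796)
        (.leaf row_80 808))
       (.node (.leaf row_48 794)
        (.leaf 0 0))))
     (.node (.node (.node (.leaf row_8 794)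
        (.leaf row_72 794))
       (.node (.leaf row_40 798)
        (.leaf 0 0)))
      (.node (.node (.leaf row_24 798)
        (.leaf row_88 840))
       (.node (.leaf row_56 796)
        (.leaf 0 0)))))
    (.node (.node (.node (.node (.leaf row_4 840)
        (.leaf row_68 796))
       (.node (.leaf row_36 796)
        (.leaf 0 0)))
      (.node (.node (.leaf row_20 794)
        (.leaf row_84 2232))
       (.node (.leaf row_52 856)
        (.leaf 0 0))))
     (.node (.node (.node (.leaf row_12 812)
        (.leaf row_76 1176))
       (.node (.leaf row_44 796)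
        (.leaf 0 0)))
      (.node (.node (.leaf row_28 794)
        (.leaf row_92 1176))
       (.node (.leaf row_60 840)
        (.leaf 0 0))))))
   (.node (.node (.node (.node (.node (.leaf row_2 800)
        (.leaf row_66 824))
       (.node (.leaf row_34 796)
        (.leaf 0 0)))
      (.node (.node (.leaf row_18 800)
        (.leaf row_82 804))
       (.node (.leaf row_50 796)
        (.leaf 0 0))))
     (.node (.node (.node (.leaf row_10 1008)
        (.leaf row_74 804))
       (.node (.leaf row_42 804)
        (.leaf 0 0)))
      (.node (.node (.leaf row_26 794)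
        (.leaf row_90 900))
       (.node (.leaf row_58 794)
        (.leaf 0 0)))))
    (.node (.node (.node (.node (.leaf row_6 800)
        (.leaf row_70 796))
       (.node (.leaf row_38 800)
        (.leaf 0 0)))
      (.node (.node (.leaf row_22 794)
        (.leaf row_86 1176))
       (.node (.leaf row_54 796)
        (.leaf 0 0))))
     (.node (.node (.node (.leaf row_14 794)
        (.leaf row_78 808))
       (.node (.leaf row_46 796)
        (.leaf 0 0)))
      (.node (.node (.leaf row_30 800)
        (.leaf 0 0))
       (.node (.leaf row_62 800)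
        (.leaf 0 0)))))))
  (.node (.node (.node (.node (.node (.node (.leaf row_1 1272)
        (.leaf row_65 804))
       (.node (.leaf row_33 793)
        (.leaf 0 0)))
      (.node (.node (.leaf row_17 796)
        (.leaf row_81 804))
       (.node (.leaf row_49 808)
        (.leaf 0 0))))
     (.node (.node (.node (.leaf row_9 1560)
        (.leaf row_73 1032))
       (.node (.leaf row_41 864)
        (.leaf 0 0)))
      (.node (.node (.leaf row_25 794)
        (.leaf row_89 840))
       (.node (.leaf row_57 804)
        (.leaf 0 0)))))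
    (.node (.node (.node (.node (.leaf row_5 800)
        (.leaf row_69 796))
       (.node (.leaf row_37 798)
        (.leaf 0 0)))
      (.node (.node (.leaf row_21 794)
        (.leaf row_85 1176))
       (.node (.leaf row_53 794)
        (.leaf 0 0))))
     (.node (.node (.node (.leaf row_13 824)
        (.leaf row_77 804))
       (.node (.leaf row_45 796)
        (.leaf 0 0)))
      (.node (.node (.leaf row_29 800)
        (.leaf row_93 798))
       (.node (.leaf row_61 796)
        (.leaf 0 0))))))
   (.node (.node (.node (.node (.node (.leaf row_3 800)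
        (.leaf row_67 802))
       (.node (.leaf row_35 796)
        (.leaf 0 0)))
      (.node (.node (.leaf row_19 800)
        (.leaf row_83 804))
       (.node (.leaf row_51 796)
        (.leaf 0 0))))
     (.node (.node (.node (.leaf row_11 796)
        (.leaf row_75 804))
       (.node (.leaf row_43 796)
        (.leaf 0 0)))
      (.node (.node (.leaf row_27 796)
        (.leaf row_91 1512))
       (.node (.leaf row_59 796)
        (.leaf 0 0)))))
    (.node (.node (.node (.node (.leaf row_7 816)
        (.leaf row_71 800))
       (.node (.leaf row_39 804)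
        (.leaf 0 0)))
      (.node (.node (.leaf row_23 793)
        (.leaf row_87 920))
       (.node (.leaf row_55 824)
        (.leaf 0 0))))
     (.node (.node (.node (.leaf row_15 794)
        (.leaf row_79 828))
       (.node (.leaf row_47 794)
        (.leaf 0 0)))
      (.node (.node (.leaf row_31 796)
        (.leaf 0 0))
       (.node (.leaf row_63 796)
        (.leaf 0 0)))))))

/-- relator types: ggg/0, pg2/0, r0/1, r0/2, r0'/2, rG4'/0 -/
def types : List Ty := [⟨0xba9876543210ba9876543210, [⟨0, 0xba9876543210ba9876543210⟩, ⟨0, 0xba9876543210ba9876543210⟩]⟩,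
  ⟨0x7453b19a8062537492b8a601, [⟨0, 0x7453b19a8062537492b8a601⟩]⟩,
  ⟨0x720b4a3915687901a482b563, [⟨0, 0x685a1b934072546329ba8701⟩, ⟨1, 0x39a15072b4864189670b23a5⟩]⟩,
  ⟨0x685a1b934072546329ba8701, [⟨1, 0x39a15072b4864189670b23a5⟩, ⟨0, 0x720b4a3915687901a482b563⟩]⟩,
  ⟨0x685a1b934072546329ba8701, [⟨1, 0x8640b1275a3937a5b1260489⟩, ⟨1, 0x39a15072b4864189670b23a5⟩]⟩,
  ⟨0xb98a564730218b9a51347620, [⟨0, 0xb98a564730218b9a51347620⟩, ⟨0, 0xb98a564730218b9a51347620⟩, ⟨0, 0xb98a564730218b9a51347620⟩]⟩]

/-- the tables -/
def tabs : Tabs where
  rows := rows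
  R := rT
  RH := rhT
  B := bT
  F := pT
  W := types
  P := parT

end Cfsg.Agent.CoThreeStd.BoundS.Data
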