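import Cfsg.Agent.CoThreeStd.DC2.Model
import Cfsg.Agent.CoThreeStd.BoundS.Tabs

/-!
# Kernel checks of the base facts of the double coset enumeration over `(M₁₂:2) × 2` (S1750)
-/

set_option autoImplicit false
set_option maxRecDepth 100000

namespace Cfsg.Agent.CoThreeStd.BoundS.Base

open Cfsg.Agent.Lib.PackMat Cfsg.Agent.CoThreeStd.DC2.Eng Cfsg.Agent.CoThreeStd.BoundS.Data

open Cfsg.Agent.CoThreeStd.DC2.Model (mulF hlf ModF gaN)

/-! ### kernel functions -/

/-- transversal -/
noncomputable def chkR (l : List (ℕ × ℕ)) : ℕ → Bool :=
  List.rec (motive := fun _ => ℕ → Bool) (fun _ => true)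
    (fun a _ ih k => cond (Nat.blt a.1 k) (cond (Nat.blt a.2 8)
      (force (at128 letT a.2) fun u => force (at128 rT a.1) fun v => cond (Nat.beq (mulF u v) (at128 rT k))
        (force (Nat.add k 1) ih) false) false) false) l

/-- half codes of the transversal -/
noncomputable def chkH (n : ℕ) : ℕ → Bool :=
  Nat.rec (motive := fun _ => ℕ → Bool) (fun _ => true)
    (fun _ ih k => cond (Nat.beq (hlf (at128 rT k)) (at64 rhT k)) (force (Nat.add k 1) ih) false) n

/-- elements of `B` -/
noncomputable def chkB (l : List (ℕ × ℕ)) : ℕ → Bool :=
  List.rec (motive := fun _ => ℕ → Bool) (fun _ => true)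
    (fun a _ ih k => cond (Nat.blt a.1 k) (cond (Nat.blt a.2 6)
      (force (at128 bT a.1) fun u => force (at128 bgT a.2) fun v => cond (Nat.beq (mulF u v) (at128 bT k))
        (force (at128 pT a.1) fun u => force (at128 pgT a.2) fun v => cond (Nat.beq (mulF u v) (at128 pT k))
          (force (Nat.add k 1) ih) false) false) false) false) l

/-- left multiplication by a letter (half code `u`) -/
noncomputable def chkL (u : ℕ) (l : List (ℕ × ℕ)) : ℕ → Bool :=
  List.rec (motive := fun _ => ℕ → Bool) (fun _ => true)
    (fun a _ ih k => cond (Nat.ble a.1 791) (cond (Nat.ble a.2 479)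
      (force (at128 rT k) fun v => force (at64 rhT a.1) fun u' =>
        force (at128 bT a.2) fun v' => cond (Nat.beq (mulH u v) (mulH u' v'))
          (force (Nat.add k 1) ih) false) false) false) l

/-- the codes at positions `k, …, k + n - 1` are increasing and greater than `c` -/
noncomputable def incr (r n : ℕ) : ℕ → ℕ → Bool :=
  Nat.rec (motive := fun _ => ℕ → ℕ → Bool) (fun _ _ => true)
    (fun _ ih k c => force (Nat.land (slot r k) 0x3ffffffffffff) fun d => cond (Nat.blt c d)
      (force (Nat.add k 1) fun k => ih k d) false) n

/-- row `i` has `792 + n` slots and `n` different stabiliser elements -/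
noncomputable def stOK (i n : ℕ) : Bool :=
  look rows i fun r n' => cond (Nat.beq n' (Nat.add 792 n)) (incr r n 792 0) false

/-- all rows -/
noncomputable def chkS (l : List ℕ) : ℕ → Bool :=
  List.rec (motive := fun _ => ℕ → Bool) (fun _ => true)
    (fun n _ ih i => cond (stOK i n) (force (Nat.add i 1) ih) false) l

/-! ### kernel checks -/

theorem kR : chkR rPar.tail 1 = true := by decide +kernel
theorem lenR : rPar.tail.length = 791 := by decide +kernel
theorem kH : chkH 792 0 = true := by decide +kernel
theorem kB : chkB bPar.tail 1 = true := by decide +kernel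
theorem lenB : bPar.tail.length = 479 := by decide +kernel
theorem kL0 : (force (hlf (at128 letT 0)) fun u => chkL u (left.getD 0 []) 0) = true := by decide +kernel
theorem kL1 : (force (hlf (at128 letT 1)) fun u => chkL u (left.getD 1 []) 0) = true := by decide +kernel
theorem kL2 : (force (hlf (at128 letT 2)) fun u => chkL u (left.getD 2 []) 0) = true := by decide +kernel
theorem kL3 : (force (hlf (at128 letT 3)) fun u => chkL u (left.getD 3 []) 0) = true := by decide +kernel
theorem kL4 : (force (hlf (at128 letT 4)) fun u => chkL u (left.getD 4 []) 0) = true := by decide +kernel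
theorem kL5 : (force (hlf (at128 letT 5)) fun u => chkL u (left.getD 5 []) 0) = true := by decide +kernel
theorem kL6 : (force (hlf (at128 letT 6)) fun u => chkL u (left.getD 6 []) 0) = true := by decide +kernel
theorem kL7 : (force (hlf (at128 letT 7)) fun u => chkL u (left.getD 7 []) 0) = true := by decide +kernel
theorem lenL : left.all (fun l => Nat.beq l.length 792) = true := by decide +kernel
theorem lenL' : left.length = 8 := by decide +kernel
theorem kS : chkS ns.tail 1 = true := by decide +kernel
theorem lenS : ns.tail.length = 93 := by decide +kernel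
theorem r0 : at128 rT 0 = idF := by decide +kernel
theorem b0 : at128 bT 0 = idF := by decide +kernel
theorem p0 : at128 pT 0 = idF := by decide +kernel
theorem bg0 : at128 bgT 0 = at128 letT 7 := by decide +kernel
theorem bg1 : at128 bgT 1 = at128 letT 6 := by decide +kernel
theorem bg2 : at128 bgT 2 = at128 letT 0 := by decide +kernel
theorem bg3 : at128 bgT 3 = mulF (at128 letT 1) (at128 letT 2) := by decide +kernel
theorem bg4 : at128 bgT 4 = mulF (at128 letT 2) (at128 letT 3) := by decide +kernel
theorem bg5 : at128 bgT 5 = mulF (at128 letT 3) (at128 letT 4) := by decide +kernel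
theorem pg0 : at128 pgT 0 = mulF (at128 letT 7) (at128 letT 6) := by decide +kernel
theorem pg1 : at128 pgT 1 = at128 letT 0 := by decide +kernel
theorem pg2 : at128 pgT 2 = mulF (at128 letT 6) (at128 letT 0) := by decide +kernel
theorem pg3 : at128 pgT 3 = at128 bgT 3 := by decide +kernel
theorem pg4 : at128 pgT 4 = at128 bgT 4 := by decide +kernel
theorem pg5 : at128 pgT 5 = at128 bgT 5 := by decide +kernel
theorem lsq : ∀ q, q < 8 → mulF (at128 letT q) (at128 letT q) = idF := by
  intro q h
  interval_cases q <;> decide +kernel

end Cfsg.Agent.CoThreeStd.BoundS.Base
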