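import Cfsg.Agent.CoThreeStd.BoundS.Tabs

/-! Kernel checks of the rows of the double coset enumeration (generated). -/

set_option autoImplicit false
set_option maxRecDepth 100000

namespace Cfsg.Agent.CoThreeStd.BoundS.Rows

open Cfsg.Agent.CoThreeStd.BoundS.Data Cfsg.Agent.CoThreeStd.DC2.Eng

theorem ok1 : rowOK tabs 93 1 cert_1 = true := by decide +kernel

theorem ok2 : rowOK tabs 93 2 cert_2 = true := by decide +kernel

theorem ok3 : rowOK tabs 93 3 cert_3 = true := by decide +kernel

theorem ok4 : rowOK tabs 93 4 cert_4 = true := by decide +kernel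

theorem ok5 : rowOK tabs 93 5 cert_5 = true := by decide +kernel

theorem ok6 : rowOK tabs 93 6 cert_6 = true := by decide +kernel

theorem ok7 : rowOK tabs 93 7 cert_7 = true := by decide +kernel

theorem ok8 : rowOK tabs 93 8 cert_8 = true := by decide +kernel

end Cfsg.Agent.CoThreeStd.BoundS.Rows
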