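import Cfsg.Agent.CoThreeStd.BoundS.Tabs

/-! Kernel checks of the rows of the double coset enumeration (generated). -/

set_option autoImplicit false
set_option maxRecDepth 100000

namespace Cfsg.Agent.CoThreeStd.BoundS.Rows

open Cfsg.Agent.CoThreeStd.BoundS.Data Cfsg.Agent.CoThreeStd.DC2.Eng

theorem ok73 : rowOK tabs 93 73 cert_73 = true := by decide +kernel

theorem ok74 : rowOK tabs 93 74 cert_74 = true := by decide +kernel

theorem ok75 : rowOK tabs 93 75 cert_75 = true := by decide +kernel

theorem ok76 : rowOK tabs 93 76 cert_76 = true := by decide +kernel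

theorem ok77 : rowOK tabs 93 77 cert_77 = true := by decide +kernel

theorem ok78 : rowOK tabs 93 78 cert_78 = true := by decide +kernel

theorem ok79 : rowOK tabs 93 79 cert_79 = true := by decide +kernel

theorem ok80 : rowOK tabs 93 80 cert_80 = true := by decide +kernel

end Cfsg.Agent.CoThreeStd.BoundS.Rows
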