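import Cfsg.Agent.CoThreeStd.BoundS.Tabs

/-! Kernel checks of the rows of the double coset enumeration (generated). -/

set_option autoImplicit false
set_option maxRecDepth 100000

namespace Cfsg.Agent.CoThreeStd.BoundS.Rows

open Cfsg.Agent.CoThreeStd.BoundS.Data Cfsg.Agent.CoThreeStd.DC2.Eng

theorem ok81 : rowOK tabs 93 81 cert_81 = true := by decide +kernel

theorem ok82 : rowOK tabs 93 82 cert_82 = true := by decide +kernel

theorem ok83 : rowOK tabs 93 83 cert_83 = true := by decide +kernel

theorem ok84 : rowOK tabs 93 84 cert_84 = true := by decide +kernel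

theorem ok85 : rowOK tabs 93 85 cert_85 = true := by decide +kernel

theorem ok86 : rowOK tabs 93 86 cert_86 = true := by decide +kernel

theorem ok87 : rowOK tabs 93 87 cert_87 = true := by decide +kernel

theorem ok88 : rowOK tabs 93 88 cert_88 = true := by decide +kernel

end Cfsg.Agent.CoThreeStd.BoundS.Rows
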