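import Cfsg.Agent.CoThreeStd.BoundS.Tabs

/-! Kernel checks of the rows of the double coset enumeration (generated). -/

set_option autoImplicit false
set_option maxRecDepth 100000

namespace Cfsg.Agent.CoThreeStd.BoundS.Rows

open Cfsg.Agent.CoThreeStd.BoundS.Data Cfsg.Agent.CoThreeStd.DC2.Eng

theorem ok89 : rowOK tabs 93 89 cert_89 = true := by decide +kernel

theorem ok90 : rowOK tabs 93 90 cert_90 = true := by decide +kernel

theorem ok91 : rowOK tabs 93 91 cert_91 = true := by decide +kernel

theorem ok92 : rowOK tabs 93 92 cert_92 = true := by decide +kernel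

theorem ok93 : rowOK tabs 93 93 cert_93 = true := by decide +kernel

end Cfsg.Agent.CoThreeStd.BoundS.Rows
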