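import Cfsg.Agent.CoThreeStd.BoundS.Tabs

/-! Kernel checks of the rows of the double coset enumeration (generated). -/

set_option autoImplicit false
set_option maxRecDepth 100000

namespace Cfsg.Agent.CoThreeStd.BoundS.Rows

open Cfsg.Agent.CoThreeStd.BoundS.Data Cfsg.Agent.CoThreeStd.DC2.Eng

theorem ok9 : rowOK tabs 93 9 cert_9 = true := by decide +kernel

theorem ok10 : rowOK tabs 93 10 cert_10 = true := by decide +kernel

theorem ok11 : rowOK tabs 93 11 cert_11 = true := by decide +kernel

theorem ok12 : rowOK tabs 93 12 cert_12 = true := by decide +kernel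

theorem ok13 : rowOK tabs 93 13 cert_13 = true := by decide +kernel

theorem ok14 : rowOK tabs 93 14 cert_14 = true := by decide +kernel

theorem ok15 : rowOK tabs 93 15 cert_15 = true := by decide +kernel

theorem ok16 : rowOK tabs 93 16 cert_16 = true := by decide +kernel

end Cfsg.Agent.CoThreeStd.BoundS.Rows
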