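import Cfsg.Agent.CoThreeStd.BoundS.Tabs

/-! Kernel checks of the rows of the double coset enumeration (generated). -/

set_option autoImplicit false
set_option maxRecDepth 100000

namespace Cfsg.Agent.CoThreeStd.BoundS.Rows

open Cfsg.Agent.CoThreeStd.BoundS.Data Cfsg.Agent.CoThreeStd.DC2.Eng

theorem ok25 : rowOK tabs 93 25 cert_25 = true := by decide +kernel

theorem ok26 : rowOK tabs 93 26 cert_26 = true := by decide +kernel

theorem ok27 : rowOK tabs 93 27 cert_27 = true := by decide +kernel

theorem ok28 : rowOK tabs 93 28 cert_28 = true := by decide +kernel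

theorem ok29 : rowOK tabs 93 29 cert_29 = true := by decide +kernel

theorem ok30 : rowOK tabs 93 30 cert_30 = true := by decide +kernel

theorem ok31 : rowOK tabs 93 31 cert_31 = true := by decide +kernel

theorem ok32 : rowOK tabs 93 32 cert_32 = true := by decide +kernel

end Cfsg.Agent.CoThreeStd.BoundS.Rows
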