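import Cfsg.Agent.CoThreeStd.BoundS.Tabs

/-! Kernel checks of the rows of the double coset enumeration (generated). -/

set_option autoImplicit false
set_option maxRecDepth 100000

namespace Cfsg.Agent.CoThreeStd.BoundS.Rows

open Cfsg.Agent.CoThreeStd.BoundS.Data Cfsg.Agent.CoThreeStd.DC2.Eng

theorem ok49 : rowOK tabs 93 49 cert_49 = true := by decide +kernel

theorem ok50 : rowOK tabs 93 50 cert_50 = true := by decide +kernel

theorem ok51 : rowOK tabs 93 51 cert_51 = true := by decide +kernel

theorem ok52 : rowOK tabs 93 52 cert_52 = true := by decide +kernel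

theorem ok53 : rowOK tabs 93 53 cert_53 = true := by decide +kernel

theorem ok54 : rowOK tabs 93 54 cert_54 = true := by decide +kernel

theorem ok55 : rowOK tabs 93 55 cert_55 = true := by decide +kernel

theorem ok56 : rowOK tabs 93 56 cert_56 = true := by decide +kernel

end Cfsg.Agent.CoThreeStd.BoundS.Rows
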