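import Cfsg.Agent.CoThreeStd.BoundS.Tabs

/-! Kernel checks of the rows of the double coset enumeration (generated). -/

set_option autoImplicit false
set_option maxRecDepth 100000

namespace Cfsg.Agent.CoThreeStd.BoundS.Rows

open Cfsg.Agent.CoThreeStd.BoundS.Data Cfsg.Agent.CoThreeStd.DC2.Eng

theorem ok57 : rowOK tabs 93 57 cert_57 = true := by decide +kernel

theorem ok58 : rowOK tabs 93 58 cert_58 = true := by decide +kernel

theorem ok59 : rowOK tabs 93 59 cert_59 = true := by decide +kernel

theorem ok60 : rowOK tabs 93 60 cert_60 = true := by decide +kernel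

theorem ok61 : rowOK tabs 93 61 cert_61 = true := by decide +kernel

theorem ok62 : rowOK tabs 93 62 cert_62 = true := by decide +kernel

theorem ok63 : rowOK tabs 93 63 cert_63 = true := by decide +kernel

theorem ok64 : rowOK tabs 93 64 cert_64 = true := by decide +kernel

end Cfsg.Agent.CoThreeStd.BoundS.Rows
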