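import Cfsg.Agent.CoThreeStd.BoundS.Final
import Cfsg.Agent.CoThreeStd.DC2.Psi
import Cfsg.Agent.CoThreeStd.DC2.HW
import Cfsg.Agent.CoThreeStd.SuzU.RhoD
import Cfsg.Agent.CoThreeStd.SuzU.Mod

/-!
# `UB3` (S1750): the order bound for `P1` by double coset enumeration over `(M₁₂:2) × 2`
-/

set_option autoImplicit false
set_option maxRecDepth 100000

namespace Cfsg.Agent.CoThreeStd.BoundS.Main

open Cfsg.Agent.CoThreeStd.SuzP.Data Cfsg.Agent.CoThreeStd.SuzP.Pres Cfsg.Agent.CoThreeStd.SuzU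
  Cfsg.Agent.CoThreeStd.BoundS.Base

theorem rel1 : ∀ w ∈ rels, (w.map ge1).prod = 1 := fun _ hw => wd1_rel (mem_rels1.2 (Or.inl hw))

theorem relr : (r1.map ge1).prod = 1 := wd1_rel (mem_rels1.2 (Or.inr rfl))

theorem conj : BoundS.Base.Conj DC2.Alpha.ga (DC2.Psi.psiP rel1) (ge1 .d) where
  ct := DC2.Psi.conj0 rel1
  cc := DC2.Psi.conj1 rel1
  cy := DC2.Psi.conj2 rel1
  c1 := DC2.Psi.conj3 rel1
  c2 := DC2.Psi.conj4 rel1
  c3 := DC2.Psi.conj5 rel1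

/-- the weak bound -/
theorem bound1 : Finite P1 ∧ Nat.card P1 ≤ 2714159162880 :=
  bound_CC conj (by rw [pow_succ, pow_two]; exact DC2.Psi.ddd rel1)
    (DC2.HW.hW rel1 (RhoD.rhoD_pow rel1 relr)) (DC2.Psi.gen rel1 closure_ge1)

/-- **The upper bound for the order of `P1`.** -/
theorem ub3 : UB3 := ub3_of_lt bound1.1 (lt_of_le_of_lt bound1.2 (by norm_num))

end Cfsg.Agent.CoThreeStd.BoundS.Main
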