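import Cfsg.Agent.CoThreeStd.BoundS.Tabs

/-! Kernel checks of the rows of the double coset enumeration (generated). -/

set_option autoImplicit false
set_option maxRecDepth 100000

namespace Cfsg.Agent.CoThreeStd.BoundS.Rows

open Cfsg.Agent.CoThreeStd.BoundS.Data Cfsg.Agent.CoThreeStd.DC2.Eng

theorem ok65 : rowOK tabs 93 65 cert_65 = true := by decide +kernel

theorem ok66 : rowOK tabs 93 66 cert_66 = true := by decide +kernel

theorem ok67 : rowOK tabs 93 67 cert_67 = true := by decide +kernel

theorem ok68 : rowOK tabs 93 68 cert_68 = true := by decide +kernel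

theorem ok69 : rowOK tabs 93 69 cert_69 = true := by decide +kernel

theorem ok70 : rowOK tabs 93 70 cert_70 = true := by decide +kernel

theorem ok71 : rowOK tabs 93 71 cert_71 = true := by decide +kernel

theorem ok72 : rowOK tabs 93 72 cert_72 = true := by decide +kernel

end Cfsg.Agent.CoThreeStd.BoundS.Rows
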