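import Cfsg.Agent.CoThreeStd.DC2.Sound
import Cfsg.Agent.CoThreeStd.BoundS.Base
import Mathlib.Tactic

/-!
# Soundness of the base facts of the double coset enumeration over `(M₁₂:2) × 2` (S1750)
-/

set_option autoImplicit false
set_option maxRecDepth 100000

namespace Cfsg.Agent.CoThreeStd.BoundS.Base

open Cfsg.Agent.Lib.PackMat Cfsg.Agent.CoThreeStd.DC2.Eng Cfsg.Agent.CoThreeStd.DC2.Sound
  Cfsg.Agent.CoThreeStd.BoundS.Data

open Cfsg.Agent.CoThreeStd.DC2.Model (mulF hlf ModF gaN)

theorem letT_eq : ∀ q < 8, at128 letT q = gaN q := by decide +kernel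

/-! ### soundness of the lists -/

attribute [local irreducible] mulH mulF hlf idN idF at64 at128 slot rowOK chk

theorem chkR_sound (l : List (ℕ × ℕ)) : ∀ {k : ℕ}, chkR l k = true → ∀ m < l.length,
    ∃ p q, p < k + m ∧ q < 8 ∧ mulF (at128 letT q) (at128 rT p) = at128 rT (k + m) := by
  induction l with
  | nil => intro k _ m hm; exact absurd hm (by simp)
  | cons a l ih =>
    intro k h m hm
    replace h : cond (Nat.blt a.1 k) (cond (Nat.blt a.2 8)
      (force (at128 letT a.2) fun u => force (at128 rT a.1) fun v => cond (Nat.beq (mulF u v) (at128 rT k))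
        (force (Nat.add k 1) (chkR l)) false) false) false = true := h
    simp only [force_eq] at h
    obtain ⟨h1, h⟩ := cond_true_of h
    obtain ⟨h2, h⟩ := cond_true_of h
    obtain ⟨h3, h⟩ := cond_true_of h
    cases m with
    | zero => exact ⟨a.1, a.2, by rw [← Nat.blt_eq]; exact h1, by rw [← Nat.blt_eq]; exact h2, Nat.eq_of_beq_eq_true h3⟩
    | succ m =>
      have := ih h m (by rw [List.length_cons] at hm; omega)
      rwa [show Nat.add k 1 + m = k + (m + 1) by show k + 1 + m = _; omega] at this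

theorem chkH_sound (n : ℕ) : ∀ {k : ℕ}, chkH n k = true → ∀ m < n,
    hlf (at128 rT (k + m)) = at64 rhT (k + m) := by
  induction n with
  | zero => intro k _ m hm; exact absurd hm (by simp)
  | succ n ih =>
    intro k h m hm
    replace h : cond (Nat.beq (hlf (at128 rT k)) (at64 rhT k)) (force (Nat.add k 1) (chkH n)) false = true := h
    simp only [force_eq] at h
    obtain ⟨h1, h⟩ := cond_true_of h
    cases m with
    | zero => exact Nat.eq_of_beq_eq_true h1
    | succ m =>
      have := ih h m (by omega)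
      rwa [show Nat.add k 1 + m = k + (m + 1) by show k + 1 + m = _; omega] at this

theorem chkB_sound (l : List (ℕ × ℕ)) : ∀ {k : ℕ}, chkB l k = true → ∀ m < l.length,
    ∃ p q, p < k + m ∧ q < 6 ∧ mulF (at128 bT p) (at128 bgT q) = at128 bT (k + m) ∧
      mulF (at128 pT p) (at128 pgT q) = at128 pT (k + m) := by
  induction l with
  | nil => intro k _ m hm; exact absurd hm (by simp)
  | cons a l ih =>
    intro k h m hm
    replace h : cond (Nat.blt a.1 k) (cond (Nat.blt a.2 6)
      (force (at128 bT a.1) fun u => force (at128 bgT a.2) fun v => cond (Nat.beq (mulF u v) (at128 bT k))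
        (force (at128 pT a.1) fun u => force (at128 pgT a.2) fun v => cond (Nat.beq (mulF u v) (at128 pT k))
          (force (Nat.add k 1) (chkB l)) false) false) false) false = true := h
    simp only [force_eq] at h
    obtain ⟨h1, h⟩ := cond_true_of h
    obtain ⟨h2, h⟩ := cond_true_of h
    obtain ⟨h3, h⟩ := cond_true_of h
    obtain ⟨h4, h⟩ := cond_true_of h
    cases m with
    | zero => exact ⟨a.1, a.2, by rw [← Nat.blt_eq]; exact h1, by rw [← Nat.blt_eq]; exact h2,
        Nat.eq_of_beq_eq_true h3, Nat.eq_of_beq_eq_true h4⟩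
    | succ m =>
      have := ih h m (by rw [List.length_cons] at hm; omega)
      rwa [show Nat.add k 1 + m = k + (m + 1) by show k + 1 + m = _; omega] at this

theorem chkL_sound (u : ℕ) (l : List (ℕ × ℕ)) : ∀ {k : ℕ}, chkL u l k = true → ∀ m < l.length,
    ∃ k' b, k' ≤ 791 ∧ b ≤ 479 ∧ mulH u (at128 rT (k + m)) = mulH (at64 rhT k') (at128 bT b) := by
  induction l with
  | nil => intro k _ m hm; exact absurd hm (by simp)
  | cons a l ih =>
    intro k h m hm
    replace h : cond (Nat.ble a.1 791) (cond (Nat.ble a.2 479)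
      (force (at128 rT k) fun v => force (at64 rhT a.1) fun u' =>
        force (at128 bT a.2) fun v' => cond (Nat.beq (mulH u v) (mulH u' v'))
          (force (Nat.add k 1) (chkL u l)) false) false) false = true := h
    simp only [force_eq] at h
    obtain ⟨h1, h⟩ := cond_true_of h
    obtain ⟨h2, h⟩ := cond_true_of h
    obtain ⟨h3, h⟩ := cond_true_of h
    cases m with
    | zero => exact ⟨a.1, a.2, Nat.le_of_ble_eq_true h1, Nat.le_of_ble_eq_true h2, Nat.eq_of_beq_eq_true h3⟩
    | succ m =>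
      have := ih h m (by rw [List.length_cons] at hm; omega)
      rwa [show Nat.add k 1 + m = k + (m + 1) by show k + 1 + m = _; omega] at this

theorem kL : ∀ q < 8, ∀ k ≤ 791, ∃ k' b, k' ≤ 791 ∧ b ≤ 479 ∧
    mulH (hlf (at128 letT q)) (at128 rT k) = mulH (at64 rhT k') (at128 bT b) := by
  intro q hq k hk
  have hlen : (left.getD q []).length = 792 := by
    have h1 := List.all_eq_true.1 lenL (left.getD q []) (by
      rw [List.getD_eq_getElem _ _ (by rw [lenL']; exact hq)]
      exact List.getElem_mem _)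
    exact Nat.eq_of_beq_eq_true h1
  have hc : (force (hlf (at128 letT q)) fun u => chkL u (left.getD q []) 0) = true := by
    interval_cases q
    exacts [kL0, kL1, kL2, kL3, kL4, kL5, kL6, kL7]
  rw [force_eq] at hc
  have := chkL_sound _ _ hc k (by rw [hlen]; omega)
  rwa [Nat.zero_add] at this

theorem incr_sound {r : ℕ} (n : ℕ) : ∀ {k c : ℕ}, incr r n k c = true →
    (∀ m < n, c < Nat.land (slot r (k + m)) 0x3ffffffffffff) ∧
    ∀ m < n, ∀ m' < m, Nat.land (slot r (k + m')) 0x3ffffffffffff < Nat.land (slot r (k + m)) 0x3ffffffffffff := by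
  induction n with
  | zero => exact fun _ => ⟨fun m hm => absurd hm (by simp), fun m hm => absurd hm (by simp)⟩
  | succ n ih =>
    intro k c h
    replace h : force (Nat.land (slot r k) 0x3ffffffffffff) (fun d => cond (Nat.blt c d)
      (force (Nat.add k 1) fun k => incr r n k d) false) = true := h
    simp only [force_eq] at h
    obtain ⟨h1, h⟩ := cond_true_of h
    obtain ⟨h2, h3⟩ := ih h
    have h1' : c < Nat.land (slot r k) 0x3ffffffffffff := by rw [← Nat.blt_eq]; exact h1
    constructor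
    · intro m hm
      cases m with
      | zero => exact h1'
      | succ m =>
        have := h2 m (by omega)
        rw [show Nat.add k 1 + m = k + (m + 1) by show k + 1 + m = _; omega] at this
        exact h1'.trans this
    · intro m hm m' hm'
      cases m with
      | zero => exact absurd hm' (by simp)
      | succ m =>
        rw [show k + (m + 1) = Nat.add k 1 + m by show _ = k + 1 + m; omega]
        cases m' with
        | zero => exact h2 m (by omega)
        | succ m' =>
          rw [show k + (m' + 1) = Nat.add k 1 + m' by show _ = k + 1 + m'; omega]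
          exact h3 m (by omega) m' (by omega)

theorem chkS_sound (l : List ℕ) : ∀ {i : ℕ}, chkS l i = true → ∀ m < l.length,
    stOK (i + m) (l.getD m 0) = true := by
  induction l with
  | nil => intro k _ m hm; exact absurd hm (by simp)
  | cons n l ih =>
    intro i h m hm
    replace h : cond (stOK i n) (force (Nat.add i 1) (chkS l)) false = true := h
    simp only [force_eq] at h
    obtain ⟨h1, h⟩ := cond_true_of h
    cases m with
    | zero => exact h1
    | succ m =>
      have := ih h m (by rw [List.length_cons] at hm; omega)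
      rw [show Nat.add i 1 + m = i + (m + 1) by show i + 1 + m = _; omega] at this
      rw [List.getD_cons_succ]
      exact this

theorem stOK_sound {i n : ℕ} (h : stOK i n = true) : ∃ r, find rows i = some (r, 792 + n) ∧
    (∀ m < n, ∀ m' < m, Nat.land (slot r (792 + m')) 0x3ffffffffffff <
      Nat.land (slot r (792 + m)) 0x3ffffffffffff) := by
  unfold stOK at h
  obtain ⟨r, n', h1, h2⟩ := look_sound h
  obtain ⟨h3, h4⟩ := cond_true_of h2
  have h5 : n' = 792 + n := Nat.eq_of_beq_eq_true h3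
  rw [h5] at h1
  exact ⟨r, h1, (incr_sound n h4).2⟩

/-! ### rows -/

/-- depth of a tree -/
def dep : BT → ℕ
  | .leaf _ _ => 0
  | .node l r => 1 + max (dep l) (dep r)

theorem find_lt {t : BT} {i : ℕ} {x : ℕ × ℕ} (h : find t i = some x) : i < 2 ^ dep t := by
  induction t generalizing i with
  | leaf r n =>
    rw [find] at h
    split_ifs at h with h1
    rw [h1]
    exact Nat.two_pow_pos _
  | node l r ihl ihr =>
    have key : ∀ m, i >>> 1 < 2 ^ m → i < 2 ^ (1 + m) := by
      intro m hm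
      rw [Nat.shiftRight_eq_div_pow, pow_one] at hm
      rw [pow_add, pow_one]
      omega
    rw [find] at h
    split_ifs at h with h1
    · refine lt_of_lt_of_le (key _ (ihl h)) (Nat.pow_le_pow_right (by norm_num) ?_)
      show 1 + dep l ≤ 1 + max (dep l) (dep r)
      omega
    · refine lt_of_lt_of_le (key _ (ihr h)) (Nat.pow_le_pow_right (by norm_num) ?_)
      show 1 + dep r ≤ 1 + max (dep l) (dep r)
      omega

theorem dep_rows : dep rows = 7 := by decide +kernel

/-- the empty rows -/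
theorem find_empty : ∀ i < 128, (i = 0 ∨ 94 ≤ i) → (find rows i).getD (1, 1) = (0, 0) ∨ find rows i = none := by
  decide +kernel

section Sem

variable {C H : Type*} [Group C] [Group H]

/-- the hypotheses on the letters (`y p q r s b c t`) -/
structure Lets (M : ModF C) (ga : ℕ → C) : Prop where
  fl : ∀ q < 8, M.fl (ga q) = at128 letT q
  cl : Subgroup.closure (ga '' {q | q < 8}) = ⊤

/-- the hypotheses on `g` -/
structure Conj (ga : ℕ → C) (ψ : C →* H) (g : H) : Prop where
  ct : ψ (ga 7) * g = g * ψ (ga 7 * ga 6)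
  cc : ψ (ga 6) * g = g * ψ (ga 0)
  cy : ψ (ga 0) * g = g * ψ (ga 6 * ga 0)
  c1 : ψ (ga 1 * ga 2) * g = g * ψ (ga 1 * ga 2)
  c2 : ψ (ga 2 * ga 3) * g = g * ψ (ga 2 * ga 3)
  c3 : ψ (ga 3 * ga 4) * g = g * ψ (ga 3 * ga 4)

variable {M : ModF C} {ga : ℕ → C}

theorem exists_rr (L : Lets M ga) :
    ∃ rr : ℕ → C, rr 0 = 1 ∧ ∀ k ≤ 791, M.fl (rr k) = at128 rT k ∧ M.cd (rr k) = at64 rhT k := by
  have key : ∀ k, k ≤ 791 → ∃ c : C, M.fl c = at128 rT k := by
    intro k
    induction k using Nat.strong_induction_on with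
    | _ k ih =>
      intro hk
      rcases Nat.eq_zero_or_pos k with rfl | hpos
      · exact ⟨1, by rw [M.fone, r0]⟩
      · obtain ⟨p, q, hp, hq, e⟩ := chkR_sound _ kR (k - 1) (by rw [lenR]; omega)
        rw [show 1 + (k - 1) = k by omega] at hp e
        obtain ⟨c, hc⟩ := ih p hp (by omega)
        exact ⟨ga q * c, by rw [← M.fmul, L.fl q hq, hc, e]⟩
  choose! f hf using key
  refine ⟨f, ?_, fun k hk => ⟨hf k hk, ?_⟩⟩
  · apply M.finj
    rw [hf 0 (by omega), r0, M.fone]
  · have := chkH_sound _ kH k (by omega)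
    rw [Nat.zero_add] at this
    rw [← M.half_eq, hf k hk, this]

theorem gens_B (L : Lets M ga) {ψ : C →* H} {g : H} (D : Conj ga ψ g) (q : ℕ) (hq : q < 6) :
    ∃ β φ : C, M.fl β = at128 bgT q ∧ M.fl φ = at128 pgT q ∧ ψ β * g = g * ψ φ := by
  have hl := L.fl
  interval_cases q
  · exact ⟨ga 7, ga 7 * ga 6, by rw [hl 7 (by omega), bg0],
      by rw [← M.fmul, hl 7 (by omega), hl 6 (by omega), pg0], D.ct⟩
  · exact ⟨ga 6, ga 0, by rw [hl 6 (by omega), bg1], by rw [hl 0 (by omega), pg1], D.cc⟩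
  · exact ⟨ga 0, ga 6 * ga 0, by rw [hl 0 (by omega), bg2],
      by rw [← M.fmul, hl 6 (by omega), hl 0 (by omega), pg2], D.cy⟩
  · exact ⟨ga 1 * ga 2, ga 1 * ga 2, by rw [← M.fmul, hl 1 (by omega), hl 2 (by omega), bg3],
      by rw [← M.fmul, hl 1 (by omega), hl 2 (by omega), pg3, bg3], D.c1⟩
  · exact ⟨ga 2 * ga 3, ga 2 * ga 3, by rw [← M.fmul, hl 2 (by omega), hl 3 (by omega), bg4],
      by rw [← M.fmul, hl 2 (by omega), hl 3 (by omega), pg4, bg4], D.c2⟩
  · exact ⟨ga 3 * ga 4, ga 3 * ga 4, by rw [← M.fmul, hl 3 (by omega), hl 4 (by omega), bg5],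
      by rw [← M.fmul, hl 3 (by omega), hl 4 (by omega), pg5, bg5], D.c3⟩

theorem exists_B (L : Lets M ga) {ψ : C →* H} {g : H} (D : Conj ga ψ g) :
    ∀ b ≤ 479, ∃ β φ : C, M.fl β = at128 bT b ∧ M.fl φ = at128 pT b ∧ ψ β * g = g * ψ φ := by
  intro b
  induction b using Nat.strong_induction_on with
  | _ b ih =>
    intro hb
    rcases Nat.eq_zero_or_pos b with rfl | hpos
    · exact ⟨1, 1, by rw [M.fone, b0], by rw [M.fone, p0], by rw [map_one, one_mul, mul_one]⟩
    · obtain ⟨p, q, hp, hq, e1, e2⟩ := chkB_sound _ kB (b - 1) (by rw [lenB]; omega)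
      rw [show 1 + (b - 1) = b by omega] at hp e1 e2
      obtain ⟨β, φ, h1, h2, h3⟩ := ih p hp (by omega)
      obtain ⟨β', φ', h1', h2', h3'⟩ := gens_B L D q hq
      refine ⟨β * β', φ * φ', by rw [← M.fmul, h1, h1', e1], by rw [← M.fmul, h2, h2', e2], ?_⟩
      rw [map_mul, map_mul, mul_assoc, h3', ← mul_assoc, h3, mul_assoc]

/-- the elements of `C` conjugated into `C` by `g` -/
def BS (ψ : C →* H) (g : H) : Set C := {b | ∃ b', ψ b * g = g * ψ b'}

theorem hcov (L : Lets M ga) {ψ : C →* H} {g : H} (D : Conj ga ψ g) {rr : ℕ → C} (hr0 : rr 0 = 1)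
    (hrr : ∀ k ≤ 791, M.fl (rr k) = at128 rT k ∧ M.cd (rr k) = at64 rhT k) (c : C) :
    ∃ k < 792, ∃ b ∈ BS ψ g, c = rr k * b := by
  have hmul : ∀ b ∈ BS ψ g, ∀ b' ∈ BS ψ g, b * b' ∈ BS ψ g := by
    rintro b ⟨c, hc⟩ b' ⟨c', hc'⟩
    exact ⟨c * c', by rw [map_mul, map_mul, mul_assoc, hc', ← mul_assoc, hc, mul_assoc]⟩
  have hone : (1 : C) ∈ BS ψ g := ⟨1, by rw [map_one, one_mul, mul_one]⟩
  have hlet : ∀ q < 8, ∀ c : C, (∃ k < 792, ∃ b ∈ BS ψ g, c = rr k * b) →
      ∃ k < 792, ∃ b ∈ BS ψ g, ga q * c = rr k * b := by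
    rintro q hq c ⟨k, hk, b, hb, rfl⟩
    obtain ⟨k', b', hk', hb', e⟩ := kL q hq k (by omega)
    obtain ⟨β, φ, h1, h2, h3⟩ := exists_B L D b' hb'
    refine ⟨k', by omega, β * b, hmul _ ⟨φ, h3⟩ _ hb, ?_⟩
    rw [← mul_assoc, ← mul_assoc]
    congr 1
    apply M.inj
    rw [← M.mul, ← M.mul, ← M.half_eq (ga q), L.fl q hq, (hrr k (by omega)).1, (hrr k' hk').2, h1, e]
  have hsq : ∀ q < 8, (ga q)⁻¹ = ga q := by
    intro q hq
    rw [inv_eq_iff_mul_eq_one]
    apply M.finj
    rw [← M.fmul, L.fl q hq, lsq q hq, M.fone]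
  have hind : ∀ u ∈ Subgroup.closure (ga '' {q | q < 8}), ∀ c : C, (∃ k < 792, ∃ b ∈ BS ψ g, c = rr k * b) →
      (∃ k < 792, ∃ b ∈ BS ψ g, u * c = rr k * b) ∧ ∃ k < 792, ∃ b ∈ BS ψ g, u⁻¹ * c = rr k * b := by
    intro u hu
    induction hu using Subgroup.closure_induction with
    | mem u hu =>
      obtain ⟨q, hq, rfl⟩ := hu
      intro c hc
      rw [hsq q hq]
      exact ⟨hlet q hq c hc, hlet q hq c hc⟩
    | one => intro c hc; rw [inv_one, one_mul]; exact ⟨hc, hc⟩
    | mul u v _ _ hu hv =>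
      intro c hc
      refine ⟨?_, ?_⟩
      · rw [mul_assoc]; exact (hu _ (hv c hc).1).1
      · rw [mul_inv_rev, mul_assoc]; exact (hv _ (hu c hc).2).2
    | inv u _ hu =>
      intro c hc
      rw [inv_inv]
      exact ⟨(hu c hc).2, (hu c hc).1⟩
  have h := (hind c (by rw [L.cl]; trivial) 1 ⟨0, by norm_num, 1, hone, by rw [hr0, one_mul]⟩).1
  rwa [mul_one] at h

/-! ### representatives -/

/-- the parent field -/
noncomputable def pf (j : ℕ) : ℕ := Nat.land (Nat.shiftRight parT (Nat.mul 24 j)) 0xffffff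

theorem pf_one : pf 1 = 0 := by decide +kernel

/-- representatives of the double cosets -/
noncomputable def xrep (ψ : C →* H) (g : H) (rr : ℕ → C) : ℕ → H
  | 0 => 1
  | j + 1 =>
    if _h : pf (j + 1) / 4096 < j + 1 then
      xrep ψ g rr (pf (j + 1) / 4096) * ψ (rr (pf (j + 1) % 4096 / 2)) * (if pf (j + 1) % 2 = 0 then g else g⁻¹)
    else 1

theorem xrep_zero (ψ : C →* H) (g : H) (rr : ℕ → C) : xrep ψ g rr 0 = 1 := by
  rw [xrep]

theorem xrep_par (ψ : C →* H) (g : H) (rr : ℕ → C) {j p q e : ℕ} (hp : p < j) (hq : q ≤ 791) (he : e ≤ 1)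
    (hf : pf j = p * 4096 + (q * 2 + e)) :
    xrep ψ g rr j = xrep ψ g rr p * ψ (rr q) * (if e = 0 then g else g⁻¹) := by
  obtain ⟨j, rfl⟩ : ∃ j', j = j' + 1 := ⟨j - 1, by omega⟩
  have h1 : pf (j + 1) / 4096 = p := by omega
  have h2 : pf (j + 1) % 4096 / 2 = q := by omega
  have h3 : (pf (j + 1) % 2 = 0) ↔ e = 0 := by omega
  rw [xrep, dif_pos (by rw [h1]; exact hp), h1, h2]
  simp only [h3]

theorem xrep_one (ψ : C →* H) (g : H) {rr : ℕ → C} (h0 : rr 0 = 1) : xrep ψ g rr 1 = g := by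
  rw [xrep_par ψ g rr (p := 0) (q := 0) (e := 0) (by norm_num) (by norm_num) (by norm_num) (by rw [pf_one]),
    xrep_zero, h0, map_one, one_mul, one_mul, if_pos rfl]

/-- the hypotheses on the relators -/
def RelW (M : ModF C) (ψ : C →* H) (g : H) : Prop :=
  ∀ y ∈ tabs.W, ∃ (w : C) (v : H), M.fl w = y.w1 ∧ Val M.toMod ψ g y.ws v ∧ g * ψ w * v = 1

theorem ctx (L : Lets M ga) {ψ : C →* H} {g : H} (D : Conj ga ψ g) (hW : RelW M ψ g) {rr : ℕ → C}
    (hr0 : rr 0 = 1) (hrr : ∀ k ≤ 791, M.fl (rr k) = at128 rT k ∧ M.cd (rr k) = at64 rhT k) :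
    Ctx M.toMod tabs ψ g (xrep ψ g rr) rr where
  hR := hrr
  hB := exists_B L D
  hW := hW
  x0 := xrep_zero ψ g rr
  x1 := xrep_one ψ g hr0
  xp := by
    intro j p q e he h
    unfold isPar at h
    obtain ⟨h1, h⟩ := cond_true_of h
    obtain ⟨h2, h⟩ := cond_true_of h
    exact xrep_par ψ g rr (Nat.le_of_ble_eq_true h1) (Nat.le_of_ble_eq_true h2) he (Nat.eq_of_beq_eq_true h)

end Sem

end Cfsg.Agent.CoThreeStd.BoundS.Base
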