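import Cfsg.Agent.CoThreeStd.BoundS.Final
import Cfsg.Agent.CoThreeStd.DC2.HW
import Cfsg.Agent.CoThreeStd.SuzU.Mod
import Cfsg.Agent.CoThreeStd.SuzU.RhoD

/-!
# The bound `UB3` by the double coset enumeration over `(M₁₂ : 2) × 2`
-/

set_option autoImplicit false

namespace Cfsg.Agent.CoThreeStd.BoundS.UB

open Cfsg.Agent.CoThreeStd.SuzP.Data Cfsg.Agent.CoThreeStd.SuzP.Pres Cfsg.Agent.CoThreeStd.SuzU
open Cfsg.Agent.CoThreeStd.DC2

theorem rels_P1 : ∀ w ∈ rels, (w.map ge1).prod = 1 := fun _ hw => wd1_rel (mem_rels1.2 (Or.inl hw))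

theorem r1_P1 : (r1.map ge1).prod = 1 := wd1_rel (mem_rels1.2 (Or.inr rfl))

/-- **The order bound.** -/
theorem ub3 : UB3 := by
  have h := Base.bound_CC (ψ := Psi.psiP rels_P1) (g := ge1 .d)
    ⟨Psi.conj0 rels_P1, Psi.conj1 rels_P1, Psi.conj2 rels_P1, Psi.conj3 rels_P1, Psi.conj4 rels_P1,
      Psi.conj5 rels_P1⟩
    (by rw [pow_succ, pow_two]; exact Psi.ddd rels_P1)
    (HW.hW rels_P1 (RhoD.rhoD_pow rels_P1 r1_P1)) (Psi.gen rels_P1 closure_ge1)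
  exact ub3_of_lt h.1 (lt_of_le_of_lt h.2 (by norm_num))

end Cfsg.Agent.CoThreeStd.BoundS.UB
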